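import Groth.Agent.Stk19b.DMSlice.Piece
import Groth.Agent.Stk19b.DMFaithful

/-! Stacks with unramified diagonal are Deligne–Mumford. -/

set_option autoImplicit false
set_option linter.style.haveILetI false
set_option backward.isDefEq.respectTransparency false
set_option backward.isDefEq.respectTransparency.types false

universe u

open CategoryTheory CategoryTheory.Limits AlgebraicGeometry Opposite FibCat
open Groth.Agent.Stk19 Groth.Agent.Desc19

namespace Groth.Agent.Stk19b.DMSlice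

variable {S : Scheme.{u}} {𝒳 : AlgSt.Cat S}

/-- A vertical automorphism trivial over a surjection is trivial. -/
theorem aut_eq_id_of_surjective (h : IsFibGrpd 𝒳.p)
    (hd : AlgSt.IsDMOver 𝒳)
    {b r : 𝒳.obj} (φ : b ⟶ b) (hφ : 𝒳.p.map φ = 𝟙 _) (ν : r ⟶ b)
    (hν : Function.Surjective (𝒳.p.map ν).left) (hνφ : ν ≫ φ = ν) : φ = 𝟙 b := by
  let T := 𝒳.p.obj b
  obtain ⟨y, i, hi⟩ := exists_classifying (U := T) h b rfl
  let top : (overCat T).obj := Over.mk (𝟙 T)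
  let q := inertiaToBase (toSelf 𝒳)
  haveI : IsIso φ := by
    have : IsIso (𝒳.p.map φ) := by rw [hφ]; infer_instance
    exact fibGrpd_isIso h _
  obtain ⟨G, e, he, hG⟩ := inertia_with_of_diag hd T y
  let z₁ : (fp y q).obj := fpMk top (⟨b, asIso φ, hφ⟩ : InertiaObj (toSelf 𝒳)) i hi
  let z₂ : (fp y q).obj := fpMk top (⟨b, Iso.refl b, 𝒳.p.map_id b⟩ : InertiaObj (toSelf 𝒳)) i hi
  obtain ⟨s₁, hs₁, ⟨η₁⟩⟩ := exists_sec e he z₁
  obtain ⟨s₂, hs₂, ⟨η₂⟩⟩ := exists_sec e he z₂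
  have hs₁' := hs₁.trans ((AlgSp.yon S).map_id T)
  have hs₂' := hs₂.trans ((AlgSp.yon S).map_id T)
  have hsec : s₁ = s₂ := by
    let t : 𝒳.p.obj r ⟶ T := 𝒳.p.map ν
    refine eq_of_open_diag (diag_of_locP_unram (V := G) (Z := ⟨_, AlgSp.IsAlgSpace.yon_obj T⟩) _ hG)
      s₁ s₂ hs₁' hs₂' fun pnt => ⟨_, t, hν pnt, ?_⟩
    have hγ : ∀ γ : (AlgSp.yon S).obj T ⟶ G.obj,
        γ ≫ AlgSt.spMapOfOver (BasedFunctor.comp e (fpFst y q)) = 𝟙 _ →
        ((AlgSp.yon S).map t ≫ γ) ≫ AlgSt.spMapOfOver (BasedFunctor.comp e (fpFst y q)) = (AlgSp.yon S).map t :=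
      fun γ h => by rw [Category.assoc, h, Category.comp_id]
    have triv : ∀ (γ : (AlgSp.yon S).obj T ⟶ G.obj)
        (_ : γ ≫ AlgSt.spMapOfOver (BasedFunctor.comp e (fpFst y q)) = 𝟙 _) (ψ : b ≅ b) (hψ : 𝒳.p.map ψ.hom = 𝟙 _)
        (η : e.obj ⟨T, GrothendieckTopology.uliftYonedaEquiv.{u + 1} (AlgSp.J S) γ⟩ ≅
          fpMk top (⟨b, ψ, hψ⟩ : InertiaObj (toSelf 𝒳)) i hi),
        ν ≫ ψ.hom = ν →
        (e.obj ⟨_, GrothendieckTopology.uliftYonedaEquiv.{u + 1} (AlgSp.J S) ((AlgSp.yon S).map t ≫ γ)⟩).obj.snd.aut.hom =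
          𝟙 _ := by
      intro γ hγ₀ ψ hψ η hfix
      let w₀ := e.obj ⟨_, GrothendieckTopology.uliftYonedaEquiv.{u + 1} (AlgSp.J S) ((AlgSp.yon S).map t ≫ γ)⟩
      let M := e.map (yonedaElt t γ) ≫ η.hom
      let w : w₀.obj.snd.pt ⟶ b := M.hom.snd.hom
      have hc : w₀.obj.snd.aut.hom ≫ w = w ≫ ψ.hom := M.hom.snd.comm
      have hM : M.hom.fst.left = eqToHom (show w₀.obj.fst.left = _ from e.w_obj _) ≫ t := by
        have h1 : M.hom.fst.left ≫ 𝟙 T = w₀.obj.fst.hom := Over.w M.hom.fst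
        exact (Category.comp_id _).symm.trans <| h1.trans (sec_fst_hom e _ (hγ γ hγ₀) _)
      have hw : 𝒳.p.map w = eqToHom ((fp_base_eq w₀).trans (e.w_obj _)) ≫ t := by
        show (inertia (toSelf 𝒳)).p.map M.hom.snd = _
        rw [fp_map_snd M, show (overCat T).p.map M.hom.fst = M.hom.fst.left from rfl, hM]
        simp [t]
      obtain ⟨χ, ⟨-, hχ⟩, -⟩ := fibGrpd_fac h ν w (eqToHom ((fp_base_eq w₀).trans (e.w_obj _))) hw.symm
      refine fibGrpd_ext h w ?_ ?_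
      · rw [show 𝒳.p.map w₀.obj.snd.aut.hom = 𝟙 _ from w₀.obj.snd.map_aut, 𝒳.p.map_id]
      · rw [Category.id_comp, hc, ← hχ, Category.assoc, hfix]
    refine sec_eq_of_aut_trivial he t _ _ (hγ _ hs₁') (hγ _ hs₂') ?_ ?_
    · exact triv s₁ hs₁' (asIso φ) hφ η₁ hνφ
    · exact triv s₂ hs₂' (Iso.refl b) (𝒳.p.map_id b) η₂ (Category.comp_id _)
  let η₂' : e.obj ⟨_, GrothendieckTopology.uliftYonedaEquiv.{u + 1} (AlgSp.J S) s₁⟩ ≅ z₂ :=
    eqToIso (congrArg (fun s => e.obj ⟨_, GrothendieckTopology.uliftYonedaEquiv.{u + 1} (AlgSp.J S) s⟩) hsec) ≪≫ η₂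
  let k : z₁.obj.snd ≅ z₂.obj.snd := (fpSnd y q).toFunctor.mapIso (η₁.symm ≪≫ η₂')
  have hc : φ ≫ k.hom.hom = k.hom.hom ≫ 𝟙 b := k.hom.comm
  have : IsIso k.hom.hom := inferInstanceAs (IsIso (InertiaObj.forget.map k.hom))
  exact (cancel_mono (k.hom.hom : b ⟶ b)).1 (hc.trans ((Category.comp_id _).trans (Category.id_comp _).symm))

variable {U W : Over S} {u : overCat U ⥤ᵇ 𝒳} {F : AlgSp.Sp S} {e : AlgSt.ofSp F ⥤ᵇ fp u u}

theorem isTri_restrict (h : IsFibGrpd 𝒳.p) (he : IsEquivOver e) {T' T : Over S} (t : T' ⟶ T)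
    {γ : (AlgSp.yon S).obj T ⟶ F} {a b : T ⟶ U} {φ : Tri u a b} {φ' : Tri u (t ≫ a) (t ≫ b)}
    (hγ : IsTri e h γ φ) (hr : Tri.Restricts t rfl rfl φ φ') :
    IsTri e h ((AlgSp.yon S).map t ≫ γ) φ' := by
  obtain ⟨γ', hγ'⟩ := exists_point h he φ'
  rwa [point_natural h he t rfl rfl hr hγ hγ']

/-- The pair of maps from an étale chart of the self fibre product is formally unramified. -/
theorem formallyUnramified_lift (h : IsFibGrpd 𝒳.p) (he : IsEquivOver e) (hd : AlgSt.IsDMOver 𝒳)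
    (ω : (AlgSp.yon S).obj W ⟶ F) (hωE : AlgSp.RepWith @Etale ω) (p q : W ⟶ U)
    (hp : (AlgSp.yon S).map p = ω ≫ P e) (hq : (AlgSp.yon S).map q = ω ≫ Q e) :
    FormallyUnramified (pullback.lift p.left q.left ((Over.w p).trans (Over.w q).symm)) := by
  refine FormallyUnramified.of_hom_ext _ fun R R' φ hsurj hker g₁ g₂ hi hgf => ?_
  have e₁ : g₁ ≫ p.left = g₂ ≫ p.left := by simpa using congrArg (· ≫ pullback.fst _ _) hgf
  have e₂ : g₁ ≫ q.left = g₂ ≫ q.left := by simpa using congrArg (· ≫ pullback.snd _ _) hgf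
  let T : Over S := Over.mk (g₁ ≫ W.hom)
  let T' : Over S := Over.mk (Spec.map φ ≫ T.hom)
  let t : T' ⟶ T := Over.homMk (Spec.map φ)
  have ht : Function.Surjective t.left := fun x => by
    show x ∈ Set.range (PrimeSpectrum.comap φ.hom)
    rw [range_comap_of_surjective _ _ hsurj]
    intro r hr
    have hr2 : r * r ∈ RingHom.ker φ.hom ^ 2 := by rw [pow_two]; exact Ideal.mul_mem_mul hr hr
    rw [hker, Ideal.mem_bot] at hr2
    exact (x.isPrime.mem_or_mem (hr2 ▸ Ideal.zero_mem _)).elim id id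
  let h₁ : T ⟶ W := Over.homMk g₁
  let h₂ : T ⟶ W := Over.homMk g₂ (by
    show g₂ ≫ W.hom = g₁ ≫ W.hom
    rw [← Over.w p, reassoc_of% e₁])
  have hti : t ≫ h₁ = t ≫ h₂ := Over.OverMorphism.ext hi
  have hpp : h₁ ≫ p = h₂ ≫ p := Over.OverMorphism.ext e₁
  have hqq : h₁ ≫ q = h₂ ≫ q := Over.OverMorphism.ext e₂
  obtain ⟨φ₁, hφ₁⟩ := exists_tri h ((AlgSp.yon S).map h₁ ≫ ω) (a := h₁ ≫ p) (b := h₁ ≫ q)
    (by rw [Functor.map_comp, hp, Category.assoc]) (by rw [Functor.map_comp, hq, Category.assoc])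
  obtain ⟨φ₂, hφ₂⟩ := exists_tri h ((AlgSp.yon S).map h₂ ≫ ω) (a := h₁ ≫ p) (b := h₁ ≫ q)
    (by rw [hpp, Functor.map_comp, hp, Category.assoc]) (by rw [hqq, Functor.map_comp, hq, Category.assoc])
  obtain ⟨φ₁', r₁⟩ := Tri.exists_restricts h t (a' := t ≫ h₁ ≫ p) (b' := t ≫ h₁ ≫ q) rfl rfl φ₁
  obtain ⟨φ₂', r₂⟩ := Tri.exists_restricts h t (a' := t ≫ h₁ ≫ p) (b' := t ≫ h₁ ≫ q) rfl rfl φ₂
  have hφ' : φ₁' = φ₂' := by
    refine tri_unique h (isTri_restrict h he t hφ₁ r₁) ?_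
    rw [← Category.assoc, ← Functor.map_comp, hti, Functor.map_comp, Category.assoc]
    exact isTri_restrict h he t hφ₂ r₂
  have hφ : φ₁ = φ₂ := by
    have := Tri.isIso h φ₂
    apply Tri.ext'
    rw [← Category.comp_id φ₁.hom, ← IsIso.inv_hom_id φ₂.hom, ← Category.assoc,
      aut_eq_id_of_surjective h hd (φ₁.hom ≫ inv φ₂.hom) (by simp [φ₁.map_hom, φ₂.map_hom])
        (res t (a := h₁ ≫ p) (a' := t ≫ h₁ ≫ p) rfl) ?_ ?_, Category.id_comp]
    · rw [map_res, Over.comp_left, Over.comp_left]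
      have h1 : ∀ {A B : Over S} (e : A = B), Function.Surjective (eqToHom e).left := fun e => by
        subst e; exact fun x => ⟨x, rfl⟩
      intro x
      obtain ⟨y₁, hy₁⟩ := h1 (pt_base u (h₁ ≫ p)).symm x
      obtain ⟨y₂, hy₂⟩ := ht y₁
      obtain ⟨y₃, hy₃⟩ := h1 (pt_base u (t ≫ h₁ ≫ p)) y₂
      exact ⟨y₃, by rw [Scheme.Hom.comp_apply, Scheme.Hom.comp_apply, hy₃, hy₂, hy₁]⟩
    · have r₁' : φ₁'.hom ≫ res t (a := h₁ ≫ q) (a' := t ≫ h₁ ≫ q) rfl =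
          res t (a := h₁ ≫ p) (a' := t ≫ h₁ ≫ p) rfl ≫ φ₁.hom := r₁
      have r₂' : φ₂'.hom ≫ res t (a := h₁ ≫ q) (a' := t ≫ h₁ ≫ q) rfl =
          res t (a := h₁ ≫ p) (a' := t ≫ h₁ ≫ p) rfl ≫ φ₂.hom := r₂
      rw [← reassoc_of% r₁', hφ', reassoc_of% r₂']
      simp
  have hγ : (AlgSp.yon S).map h₂ ≫ ω = (AlgSp.yon S).map h₁ ≫ ω := point_ext h he (hφ ▸ hφ₂) hφ₁
  have sq := hωE.rep.isPullback ((AlgSp.yon S).map h₁ ≫ ω)
  let l₁ := sq.lift ((AlgSp.yon S).map h₁) (𝟙 _) (by rw [Category.id_comp])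
  let l₂ := sq.lift ((AlgSp.yon S).map h₂) (𝟙 _) (by rw [Category.id_comp, hγ])
  have : Etale (hωE.rep.snd ((AlgSp.yon S).map h₁ ≫ ω)).left := hωE.property_snd _
  have hl : l₁ = l₂ := eq_of_open_diag
    ((AlgSp.repWith_diagonal_yon_map_iff @IsOpenImmersion (hωE.rep.snd ((AlgSp.yon S).map h₁ ≫ ω))).2 inferInstance)
    l₁ l₂ (sq.lift_snd _ _ _) (sq.lift_snd _ _ _) fun y => ⟨T', t, ht y, sq.hom_ext
      (by simp only [l₁, l₂, Category.assoc, sq.lift_fst, ← Functor.map_comp, hti])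
      (by simp only [l₁, l₂, Category.assoc, sq.lift_snd])⟩
  have := congrArg (· ≫ hωE.rep.fst ((AlgSp.yon S).map h₁ ≫ ω)) hl
  simp only [l₁, l₂, sq.lift_fst] at this
  exact congrArg CommaMorphism.left ((AlgSp.yon S).map_injective this)

theorem chart_iso (h : IsFibGrpd 𝒳.p) {T : Over S} {a b : T ⟶ U} (φ : Tri u a b) :
    Nonempty (BasedFunctor.comp (AlgSt.overMap a) u ≅ BasedFunctor.comp (AlgSt.overMap b) u) := by
  have := Tri.isIso h φ
  have ea : (AlgSt.overMap a).obj (Over.mk (𝟙 T)) = Over.mk a := by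
    show Over.mk (𝟙 T ≫ a) = Over.mk a
    rw [Category.id_comp]
  have eb : (AlgSt.overMap b).obj (Over.mk (𝟙 T)) = Over.mk b := by
    show Over.mk (𝟙 T ≫ b) = Over.mk b
    rw [Category.id_comp]
  refine ⟨(yoneda_iso (U := T) h (BasedFunctor.comp (AlgSt.overMap a) u) (BasedFunctor.comp (AlgSt.overMap b) u) (eqToIso (congrArg u.obj ea) ≪≫ asIso φ.hom ≪≫ eqToIso (congrArg u.obj eb).symm) ?_).choose⟩
  exact IsHomLift.of_fac' 𝒳.p _ _ ((BasedFunctor.comp (AlgSt.overMap a) u).w_obj _)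
    ((BasedFunctor.comp (AlgSt.overMap b) u).w_obj _) (by simp [φ.map_hom, eqToHom_map])

theorem isDM_of_formallyUnramified {K : Precoverage Scheme.{u}} (h𝒳 : AlgSt.IsAlgStack K 𝒳)
    (hFU : ∀ {U W : Over S} (u : overCat U ⥤ᵇ 𝒳) (F : AlgSp.Sp S) (e : AlgSt.ofSp F ⥤ᵇ fp u u), IsEquivOver e →
      ∀ (ω : (AlgSp.yon S).obj W ⟶ F), AlgSp.RepWith @Etale ω → ∀ (p q : W ⟶ U) [Smooth p.left],
        (AlgSp.yon S).map p = ω ≫ P e → (AlgSp.yon S).map q = ω ≫ Q e →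
        FormallyUnramified (pullback.lift p.left q.left ((Over.w p).trans (Over.w q).symm))) :
    AlgSt.IsDM K 𝒳 := by
  refine ⟨h𝒳, ?_⟩
  obtain ⟨U, u, hu, hus⟩ := h𝒳.atlas
  have h := h𝒳.isStack.1
  obtain ⟨F, e, he, hP⟩ := hu U u
  have hQ : AlgSp.LocP @Smooth (Q e) :=
    repWith_any (respSrc_locP AlgSpLib.etLocal_smooth) he hP (BasedFunctor.comp e (fpSwap u u))
      (isEquivOver_comp he (isEquivOver_fpSwap u u))
  obtain ⟨W, ω, hωE, hωS⟩ := F.property.atlas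
  obtain ⟨p, hp⟩ := (AlgSp.yon S).map_surjective (ω ≫ P e)
  obtain ⟨q, hq⟩ := (AlgSp.yon S).map_surjective (ω ≫ Q e)
  have : Smooth p.left := AlgSp.locP_yon_map (hp ▸ AlgSpLib.locP_comp AlgSpLib.etLocal_smooth
    (AlgSp.IsAlgSpace.yon_obj W) F.property (AlgSp.IsAlgSpace.yon_obj U) (locP_atlas AlgSpLib.etLocal_smooth hωE) hP)
  have : Smooth q.left := AlgSp.locP_yon_map (hq ▸ AlgSpLib.locP_comp AlgSpLib.etLocal_smooth
    (AlgSp.IsAlgSpace.yon_obj W) F.property (AlgSp.IsAlgSpace.yon_obj U) (locP_atlas AlgSpLib.etLocal_smooth hωE) hQ)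
  have := hFU u F.obj e he ω hωE p q hp hq
  -- every point of the chart is an end
  have hpt : ∀ u₀ : U.left, ∃ x₀ : W.left, p.left x₀ = u₀ := by
    intro u₀
    obtain ⟨δ, hδ⟩ := exists_point h he (⟨𝟙 (pt u (𝟙 U)), by simp⟩ : Tri u (𝟙 U) (𝟙 U))
    have sq₀ := hωE.rep.isPullback δ
    obtain ⟨n, hn⟩ := (AlgSp.yon S).map_surjective (hωE.rep.fst δ)
    rw [← hn] at sq₀
    have hdS : Surjective (hωE.rep.snd δ).left := hωS.property _ _ _ sq₀
    obtain ⟨z, rfl⟩ := hdS.surj u₀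
    refine ⟨n.left z, ?_⟩
    have : n ≫ p = hωE.rep.snd δ := (AlgSp.yon S).map_injective (by
      rw [Functor.map_comp, hp, reassoc_of% sq₀.w, (comp_eq h hδ).1, CategoryTheory.Functor.map_id, Category.comp_id])
    rw [← Scheme.Hom.comp_apply, ← Over.comp_left, this]
  obtain ⟨Z, π, hE, hS⟩ := exists_etale_multisection h he ω hωE hωS p q hp hq hpt
  let x := BasedFunctor.comp (AlgSt.overMap π) u
  have hx1 : AlgSt.RepByAlgSp1 x := repByAlgSp1_of_diag h h𝒳.diag (repByAlgSp_overCat Z) x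
  -- the representing space over the atlas
  let G := pullback (Q e) ((AlgSp.yon S).map π)
  have sqG := IsPullback.of_hasPullback (Q e) ((AlgSp.yon S).map π)
  have hG : AlgSp.IsAlgSpace G := AlgSpLib.isAlgSpace_of_isPullback (AlgSp.IsAlgSpace.yon_obj U).diag F.property
    (AlgSp.IsAlgSpace.yon_obj Z) sqG
  have hEG : AlgSp.LocP @Etale (pullback.fst (Q e) ((AlgSp.yon S).map π) ≫ P e) := by
    have sqW := (IsPullback.of_hasPullback q π).map (AlgSp.yon S)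
    rw [hq] at sqW
    let wG := sqG.lift ((AlgSp.yon S).map (pullback.fst q π) ≫ ω) ((AlgSp.yon S).map (pullback.snd q π))
      (by rw [Category.assoc, sqW.w])
    have sqw : IsPullback ((AlgSp.yon S).map (pullback.fst q π)) wG ω (pullback.fst (Q e) ((AlgSp.yon S).map π)) :=
      IsPullback.of_bot (by rw [sqG.lift_snd]; exact sqW) (sqG.lift_fst _ _ _).symm sqG
    refine AlgSpLib.locP_of_atlas AlgSpLib.etLocal_etale hG wG (AlgSpLib.RepWith.baseChange sqw hωE)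
      (AlgSpLib.RepWith.baseChange sqw hωS) ?_
    rw [show wG ≫ pullback.fst (Q e) ((AlgSp.yon S).map π) ≫ P e = (AlgSp.yon S).map (pullback.fst q π ≫ p) by
      rw [sqG.lift_fst_assoc, Category.assoc, Functor.map_comp, hp]]
    refine (AlgSp.repWith_yon_map_iff @Etale _).2 ?_
    rw [Over.comp_left, show (pullback.fst q π).left = _ from
      (((IsPullback.of_hasPullback q π).map (Over.forget S)).isoPullback_hom_fst).symm, Category.assoc]
    exact (MorphismProperty.cancel_left_of_respectsIso @Etale _ _).2 hE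
  have hchart : AlgSt.RepByAlgSpWith (AlgSp.LocP @Etale) (fpFst u x) := by
    obtain ⟨E₁, hE₁, hE₁f, hE₁s⟩ := exists_fp_equiv sqG
    obtain ⟨i₂⟩ := spMapOfOver_iso (BasedFunctor.comp e (fpSnd u u))
    haveI : (AlgSt.toOverCat U).toFunctor.Full := (EqvData.of_isEquivOver (isEquivOver_toOverCat U)).full
    haveI : (AlgSt.toOverCat U).toFunctor.Faithful := (EqvData.of_isEquivOver (isEquivOver_toOverCat U)).faithful
    let M := fpMap (F := AlgSt.ofSpMap (Q e)) (G := AlgSt.ofSpMap ((AlgSp.yon S).map π))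
      (F' := fpSnd u u) (G' := AlgSt.overMap π) e (AlgSt.toOverCat Z) (AlgSt.toOverCat U) i₂.symm (Iso.refl _)
    let Ψ := BasedFunctor.comp (BasedFunctor.comp E₁ M) (fpCompFactor u (AlgSt.overMap π) u)
    have hΨ : IsEquivOver Ψ := isEquivOver_comp (isEquivOver_comp hE₁ (isEquivOver_fpMap _ _ _ _ _ he
      (isEquivOver_toOverCat Z))) (isEquivOver_fpCompFactor _ _ _)
    obtain ⟨i₁⟩ := spMapOfOver_iso (BasedFunctor.comp e (fpFst u u))
    refine (repByAlgSpWith_iff_of_square (f' := AlgSt.ofSpMap (pullback.fst (Q e) ((AlgSp.yon S).map π) ≫ P e))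
      (f := fpFst u x) (a := Ψ) (b := AlgSt.toOverCat U) hΨ (isEquivOver_toOverCat U) ?_).1
      (repByAlgSpWith_ofSpMap (pbStable_locP AlgSpLib.etLocal_etale) (V := ⟨G, hG⟩)
        (Z := ⟨_, AlgSp.IsAlgSpace.yon_obj U⟩) _ hEG)
    refine eqToIso ?_ ≪≫ ((Stk.restr (AlgSt.ofSpMap (pullback.fst (Q e) ((AlgSp.yon S).map π))) _).mapIso i₁).symm ≪≫
      eqToIso ?_
    · rw [← ofSpMap_comp]
      rfl
    · show BasedFunctor.comp (AlgSt.ofSpMap _) (BasedFunctor.comp e (fpFst u u)) =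
        BasedFunctor.comp (BasedFunctor.comp (BasedFunctor.comp E₁ (fpFst _ _)) e) (fpFst u u)
      rw [hE₁f]
      rfl
  have hxE : AlgSt.RepByAlgSpWith (AlgSp.LocP @Etale) x := with_of_cover (respSrc_locP AlgSpLib.etLocal_etale)
    (schDescent_locP AlgSpLib.etLocal_etale) hx1
    (repByAlgSpWith_mono (fun _ _ _ _ ha => AlgSpLib.locP_mono (fun _ _ f (_ : Smooth f) => (inferInstance : Flat f)) ha) hu)
    (repByAlgSpWith_mono (fun _ _ _ _ ha => AlgSpLib.locP_mono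
      (fun _ _ f (_ : Smooth f) => (inferInstance : LocallyOfFinitePresentation f)) ha) hu) hus hchart
  refine ⟨Z, x, repByAlgSpWith_mono (fun X V a hX ha =>
    (AlgSpLib.isEtaleMor_iff_locP AlgSpLib.etLocal_etale hX (AlgSp.IsAlgSpace.yon_obj V) a).2 ha) hxE, ?_⟩
  refine with_surjective_of_ofChart h hx1 fun z => ?_
  obtain ⟨u₀, rfl⟩ := ofChart_surjective h hus z
  obtain ⟨w, hw⟩ := hS.surj u₀
  obtain ⟨φ, -⟩ := exists_tri h ω hp.symm hq.symm
  obtain ⟨α⟩ := chart_iso h φ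
  refine ⟨(pullback.snd q.left π.left) w, ?_⟩
  rw [ofChart_overMap, ← Scheme.Hom.comp_apply, ← pullback.condition, Scheme.Hom.comp_apply,
    ← ofChart_eq_of_iso α, ← hw, Scheme.Hom.comp_apply]

theorem isDM_of_isDMOver {K : Precoverage Scheme.{u}} (h𝒳 : AlgSt.IsAlgStack K 𝒳) (hd : AlgSt.IsDMOver 𝒳) :
    AlgSt.IsDM K 𝒳 :=
  isDM_of_formallyUnramified h𝒳 fun _ _ _ he ω hωE p q _ hp hq =>
    formallyUnramified_lift h𝒳.isStack.1 he hd ω hωE p q hp hq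

end Groth.Agent.Stk19b.DMSlice
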