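import Groth.Agent.Stk19b.DMSlice.Tri
import Groth.Agent.Stk19b.SpQuot.Charts
import Groth.Agent.AlgSpLib.PointsTop

/-! The groupoid structure of the self fibre product of a chart. -/

set_option autoImplicit false
set_option linter.style.haveILetI false
set_option backward.isDefEq.respectTransparency false
set_option backward.isDefEq.respectTransparency.types false

universe u

open CategoryTheory CategoryTheory.Limits AlgebraicGeometry Opposite FibCat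
open Groth.Agent.Stk19 Groth.Agent.Desc19

namespace Groth.Agent.Stk19b.DMSlice

variable {S : Scheme.{u}} {𝒳 : AlgSt.Cat S} {U : Over S} {u : overCat U ⥤ᵇ 𝒳} {F : AlgSp.Sp S}
  {e : AlgSt.ofSp F ⥤ᵇ fp u u} (h : IsFibGrpd 𝒳.p)
include h

/-- `δ` is the quotient of two points with the same second coordinate. -/
def Div (e : AlgSt.ofSp F ⥤ᵇ fp u u) {T : Over S} (γ γ' δ : (AlgSp.yon S).obj T ⟶ F) : Prop :=
  ∃ (a b a' : T ⟶ U) (φ : Tri u a b) (ψ : Tri u a' b) (χ : Tri u a a'),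
    IsTri e h γ φ ∧ IsTri e h γ' ψ ∧ IsTri e h δ χ ∧ χ.hom ≫ ψ.hom = φ.hom

theorem Tri.isIso {T : Over S} {a b : T ⟶ U} (φ : Tri u a b) : IsIso φ.hom := by
  have : IsIso (𝒳.p.map φ.hom) := by rw [φ.map_hom]; infer_instance
  exact fibGrpd_isIso h _

theorem Div.ends {T : Over S} {γ γ' δ : (AlgSp.yon S).obj T ⟶ F} (d : Div h e γ γ' δ) :
    γ ≫ Q e = γ' ≫ Q e ∧ δ ≫ P e = γ ≫ P e ∧ δ ≫ Q e = γ' ≫ P e := by
  obtain ⟨a, b, a', φ, ψ, χ, h₁, h₂, h₃, -⟩ := d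
  rw [(comp_eq h h₁).1, (comp_eq h h₁).2, (comp_eq h h₂).1, (comp_eq h h₂).2, (comp_eq h h₃).1, (comp_eq h h₃).2]
  exact ⟨rfl, rfl, rfl⟩

theorem point_ext (he : IsEquivOver e) {T : Over S} {γ γ' : (AlgSp.yon S).obj T ⟶ F} {a b : T ⟶ U} {φ : Tri u a b}
    (h₁ : IsTri e h γ φ) (h₂ : IsTri e h γ' φ) : γ = γ' := by
  have := point_natural h he (𝟙 T) (Category.id_comp a) (Category.id_comp b)
    (φ := φ) (φ' := φ) (by
      show φ.hom ≫ res (𝟙 T) _ = res (𝟙 T) _ ≫ φ.hom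
      rw [show (res (u := u) (𝟙 T) (Category.id_comp a)) = 𝟙 _ from
          (congrArg u.map (Over.OverMorphism.ext rfl)).trans (u.toFunctor.map_id _),
        show (res (u := u) (𝟙 T) (Category.id_comp b)) = 𝟙 _ from
          (congrArg u.map (Over.OverMorphism.ext rfl)).trans (u.toFunctor.map_id _)]
      simp) h₁ h₂
  simpa using this

/-- Points with the same ends and isomorphisms agree. -/
theorem same_ends {T : Over S} {γ : (AlgSp.yon S).obj T ⟶ F} {a b a' b' : T ⟶ U} {φ : Tri u a b} {φ' : Tri u a' b'}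
    (h₁ : IsTri e h γ φ) (h₂ : IsTri e h γ φ') : a = a' ∧ b = b' :=
  ⟨(AlgSp.yon S).map_injective ((comp_eq h h₁).1.symm.trans (comp_eq h h₂).1),
    (AlgSp.yon S).map_injective ((comp_eq h h₁).2.symm.trans (comp_eq h h₂).2)⟩

theorem existsUnique_div (he : IsEquivOver e) {T : Over S} (γ γ' : (AlgSp.yon S).obj T ⟶ F)
    (hQ : γ ≫ Q e = γ' ≫ Q e) : ∃! δ, Div h e γ γ' δ := by
  obtain ⟨a, ha⟩ := (AlgSp.yon S).map_surjective (γ ≫ P e)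
  obtain ⟨a', ha'⟩ := (AlgSp.yon S).map_surjective (γ' ≫ P e)
  obtain ⟨b, hb⟩ := (AlgSp.yon S).map_surjective (γ ≫ Q e)
  obtain ⟨φ, hφ⟩ := exists_tri h γ ha.symm hb.symm
  obtain ⟨ψ, hψ⟩ := exists_tri h γ' ha'.symm (hQ.symm.trans hb.symm)
  have := Tri.isIso h ψ
  obtain ⟨δ, hδ⟩ := exists_point h he (⟨φ.hom ≫ inv ψ.hom, by simp [φ.map_hom, ψ.map_hom]⟩ : Tri u a a')
  refine ⟨δ, ⟨a, b, a', φ, ψ, _, hφ, hψ, hδ, by simp⟩, ?_⟩
  rintro δ' ⟨a₁, b₁, a₁', φ₁, ψ₁, χ₁, h₁, h₂, h₃, hc⟩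
  obtain ⟨rfl, rfl⟩ := same_ends h hφ h₁
  obtain ⟨rfl, -⟩ := same_ends h hψ h₂
  obtain rfl := tri_unique h hφ h₁
  obtain rfl := tri_unique h hψ h₂
  refine point_ext h he (φ := χ₁) h₃ ?_
  convert! hδ using 1
  exact Tri.ext' (by rw [IsIso.eq_comp_inv, hc])

theorem existsUnique_right (he : IsEquivOver e) {T : Over S} (γ δ : (AlgSp.yon S).obj T ⟶ F)
    (hP : γ ≫ P e = δ ≫ P e) : ∃! γ', Div h e γ γ' δ := by
  obtain ⟨a, ha⟩ := (AlgSp.yon S).map_surjective (γ ≫ P e)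
  obtain ⟨b, hb⟩ := (AlgSp.yon S).map_surjective (γ ≫ Q e)
  obtain ⟨a', ha'⟩ := (AlgSp.yon S).map_surjective (δ ≫ Q e)
  obtain ⟨φ, hφ⟩ := exists_tri h γ ha.symm hb.symm
  obtain ⟨χ, hχ⟩ := exists_tri h δ (hP.symm.trans ha.symm) ha'.symm
  have := Tri.isIso h χ
  obtain ⟨γ', hγ'⟩ := exists_point h he (⟨inv χ.hom ≫ φ.hom, by simp [φ.map_hom, χ.map_hom]⟩ : Tri u a' b)
  refine ⟨γ', ⟨a, b, a', φ, _, χ, hφ, hγ', hχ, by simp⟩, ?_⟩
  rintro γ₁ ⟨a₁, b₁, a₁', φ₁, ψ₁, χ₁, h₁, h₂, h₃, hc⟩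
  obtain ⟨rfl, rfl⟩ := same_ends h hφ h₁
  obtain ⟨-, rfl⟩ := same_ends h hχ h₃
  obtain rfl := tri_unique h hφ h₁
  obtain rfl := tri_unique h hχ h₃
  refine point_ext h he (φ := ψ₁) h₂ ?_
  convert! hγ' using 1
  exact Tri.ext' (by rw [IsIso.eq_inv_comp, hc])

theorem existsUnique_left (he : IsEquivOver e) {T : Over S} (γ' δ : (AlgSp.yon S).obj T ⟶ F)
    (hP : γ' ≫ P e = δ ≫ Q e) : ∃! γ, Div h e γ γ' δ := by
  obtain ⟨a', ha'⟩ := (AlgSp.yon S).map_surjective (γ' ≫ P e)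
  obtain ⟨b, hb⟩ := (AlgSp.yon S).map_surjective (γ' ≫ Q e)
  obtain ⟨a, ha⟩ := (AlgSp.yon S).map_surjective (δ ≫ P e)
  obtain ⟨ψ, hψ⟩ := exists_tri h γ' ha'.symm hb.symm
  obtain ⟨χ, hχ⟩ := exists_tri h δ ha.symm (hP.symm.trans ha'.symm)
  obtain ⟨γ, hγ⟩ := exists_point h he (⟨χ.hom ≫ ψ.hom, by simp [χ.map_hom, ψ.map_hom]⟩ : Tri u a b)
  refine ⟨γ, ⟨a, b, a', _, ψ, χ, hγ, hψ, hχ, rfl⟩, ?_⟩
  rintro γ₁ ⟨a₁, b₁, a₁', φ₁, ψ₁, χ₁, h₁, h₂, h₃, hc⟩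
  obtain ⟨rfl, rfl⟩ := same_ends h hψ h₂
  obtain ⟨rfl, -⟩ := same_ends h hχ h₃
  obtain rfl := tri_unique h hψ h₂
  obtain rfl := tri_unique h hχ h₃
  refine point_ext h he (φ := φ₁) h₁ ?_
  convert! hγ using 1
  exact Tri.ext' hc.symm

theorem Div.comp (he : IsEquivOver e) {T' T : Over S} (t : T' ⟶ T) {γ γ' δ : (AlgSp.yon S).obj T ⟶ F}
    (d : Div h e γ γ' δ) :
    Div h e ((AlgSp.yon S).map t ≫ γ) ((AlgSp.yon S).map t ≫ γ') ((AlgSp.yon S).map t ≫ δ) := by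
  obtain ⟨a, b, a', φ, ψ, χ, h₁, h₂, h₃, hc⟩ := d
  obtain ⟨φ', r₁⟩ := Tri.exists_restricts h t (a' := t ≫ a) (b' := t ≫ b) rfl rfl φ
  obtain ⟨ψ', r₂⟩ := Tri.exists_restricts h t (a' := t ≫ a') (b' := t ≫ b) rfl rfl ψ
  obtain ⟨χ', r₃⟩ := Tri.exists_restricts h t (a' := t ≫ a) (b' := t ≫ a') rfl rfl χ
  have key : ∀ {a₁ b₁ : T ⟶ U} {ξ : (AlgSp.yon S).obj T ⟶ F} {ω : Tri u a₁ b₁} {ω' : Tri u (t ≫ a₁) (t ≫ b₁)},
      IsTri e h ξ ω → Tri.Restricts t rfl rfl ω ω' → IsTri e h ((AlgSp.yon S).map t ≫ ξ) ω' := by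
    intro a₁ b₁ ξ ω ω' hω hr
    obtain ⟨ξ', hξ'⟩ := exists_point h he ω'
    rwa [point_natural h he t rfl rfl hr hω hξ']
  refine ⟨_, _, _, φ', ψ', χ', key h₁ r₁, key h₂ r₂, key h₃ r₃, ?_⟩
  have : (⟨χ'.hom ≫ ψ'.hom, by simp [χ'.map_hom, ψ'.map_hom]⟩ : Tri u (t ≫ a) (t ≫ b)) = φ' := by
    refine Tri.restricts_unique h (φ := φ) ?_ r₁
    show (χ'.hom ≫ ψ'.hom) ≫ res t _ = res t _ ≫ φ.hom
    rw [Category.assoc, show ψ'.hom ≫ res t _ = _ from r₂, ← Category.assoc,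
      show χ'.hom ≫ res t _ = _ from r₃, Category.assoc, hc]
  exact congrArg Tri.hom this

/-- The third side of a pair of arrows with the same second end. -/
theorem exists_translation (he : IsEquivOver e) {FV Y : AlgSp.Sp S} {V : Over S} {k : FV ⟶ F}
    {qV : FV ⟶ (AlgSp.yon S).obj V} {j : V ⟶ U} (sqV : IsPullback k qV (Q e) ((AlgSp.yon S).map j))
    {r₁ r₂ : Y ⟶ FV} (sqY : IsPullback r₁ r₂ qV qV) :
    ∃ θ : Y ⟶ F, IsPullback r₁ θ (k ≫ P e) (P e) ∧ IsPullback r₂ θ (k ≫ P e) (Q e) := by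
  have hQ : ∀ {Z : Over S} (s : (AlgSp.yon S).obj Z ⟶ Y), (s ≫ r₁ ≫ k) ≫ Q e = (s ≫ r₂ ≫ k) ≫ Q e := fun s => by
    simp only [Category.assoc, sqV.w, reassoc_of% sqY.w]
  choose d hd hdu using fun (Z : Over S) (s : (AlgSp.yon S).obj Z ⟶ Y) =>
    existsUnique_div h he (s ≫ r₁ ≫ k) (s ≫ r₂ ≫ k) (hQ s)
  obtain ⟨θ, hθ⟩ := SpQuot.exists_of_points (fun Z s => d Z s) (fun Z' Z t s => (hdu _ _ _ (by
    simpa only [Category.assoc] using (hd Z s).comp h he t)).symm)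
  have w₁ : r₁ ≫ k ≫ P e = θ ≫ P e := SpQuot.sp_hom_ext fun Z s => by
    rw [← Category.assoc s θ, hθ, (hd Z s).ends h |>.2.1]
    simp only [Category.assoc]
  have w₂ : r₂ ≫ k ≫ P e = θ ≫ Q e := SpQuot.sp_hom_ext fun Z s => by
    rw [← Category.assoc s θ, hθ, (hd Z s).ends h |>.2.2]
    simp only [Category.assoc]
  refine ⟨θ, AlgSpLib.isPullback_of_yon w₁ fun T x y hxy => ?_, AlgSpLib.isPullback_of_yon w₂ fun T x y hxy => ?_⟩
  · obtain ⟨γ', hγ', hu⟩ := existsUnique_right h he (x ≫ k) y (by rw [Category.assoc, hxy])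
    let z := sqV.lift γ' (x ≫ qV) (by rw [← (hγ'.ends h).1, Category.assoc, sqV.w, Category.assoc])
    refine ⟨sqY.lift x z (sqV.lift_snd _ _ _).symm, ⟨sqY.lift_fst _ _ _, ?_⟩, fun l hl => ?_⟩
    · rw [hθ]
      exact (hdu _ _ _ (by rwa [sqY.lift_fst_assoc, sqY.lift_snd_assoc, sqV.lift_fst])).symm
    · obtain ⟨hl₁, hl₂⟩ := hl
      refine sqY.hom_ext (by rw [sqY.lift_fst, hl₁]) ?_
      rw [sqY.lift_snd]
      refine sqV.hom_ext ?_ ?_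
      · rw [sqV.lift_fst]
        refine hu _ ?_
        have := hd _ l
        rwa [← hθ, hl₂, reassoc_of% hl₁, ← Category.assoc l r₂] at this
      · rw [sqV.lift_snd, Category.assoc, ← sqY.w, reassoc_of% hl₁]
  · obtain ⟨γ, hγ, hu⟩ := existsUnique_left h he (x ≫ k) y (by rw [Category.assoc, hxy])
    let z := sqV.lift γ (x ≫ qV) (by rw [(hγ.ends h).1, Category.assoc, sqV.w, Category.assoc])
    refine ⟨sqY.lift z x (sqV.lift_snd _ _ _), ⟨sqY.lift_snd _ _ _, ?_⟩, fun l hl => ?_⟩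
    · rw [hθ]
      exact (hdu _ _ _ (by rwa [sqY.lift_fst_assoc, sqY.lift_snd_assoc, sqV.lift_fst])).symm
    · obtain ⟨hl₁, hl₂⟩ := hl
      refine sqY.hom_ext ?_ (by rw [sqY.lift_snd, hl₁])
      rw [sqY.lift_fst]
      refine sqV.hom_ext ?_ ?_
      · rw [sqV.lift_fst]
        refine hu _ ?_
        have := hd _ l
        rwa [← hθ, hl₂, reassoc_of% hl₁, ← Category.assoc l r₁] at this
      · rw [sqV.lift_snd, Category.assoc, sqY.w, reassoc_of% hl₁]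

end Groth.Agent.Stk19b.DMSlice
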