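import Groth.Agent.Stk19b.DMSlice.Groupoid
import Groth.Agent.Stk19b.Boot.Main

/-! Slicing a smooth chart of a stack with unramified diagonal to an étale one. -/

set_option autoImplicit false
set_option linter.style.haveILetI false
set_option backward.isDefEq.respectTransparency false
set_option backward.isDefEq.respectTransparency.types false

universe u

open CategoryTheory CategoryTheory.Limits AlgebraicGeometry Opposite FibCat
open Groth.Agent.Stk19 Groth.Agent.Stk19b.Boot

namespace Groth.Agent.Stk19b.DMSlice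

variable {S : Scheme.{u}} {𝒳 : AlgSt.Cat S} {U W : Over S} {u : overCat U ⥤ᵇ 𝒳} {F : AlgSp.Sp S}
  {e : AlgSt.ofSp F ⥤ᵇ fp u u}

/-- A point of a smooth cover lies on a scheme mapping to the cover whose composite to the stack is étale. -/
theorem exists_etale_piece (h : IsFibGrpd 𝒳.p) (he : IsEquivOver e) (ω : (AlgSp.yon S).obj W ⟶ F)
    (hωE : AlgSp.RepWith @Etale ω) (hωS : AlgSp.RepWith @Surjective ω) (p q : W ⟶ U)
    (hp : (AlgSp.yon S).map p = ω ≫ P e) (hq : (AlgSp.yon S).map q = ω ≫ Q e)
    [Smooth p.left] [Smooth q.left]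
    [hpq : FormallyUnramified (pullback.lift p.left q.left ((Over.w p).trans (Over.w q).symm))]
    (u₀ : U.left) (x₀ : W.left) (hxp : p.left x₀ = u₀) :
    ∃ (Z : Over S) (π : Z ⟶ U), Etale (pullback.fst q.left π.left ≫ p.left) ∧
      u₀ ∈ Set.range (pullback.fst q.left π.left ≫ p.left) := by
  obtain ⟨B, j, hj, y, hy, -⟩ := exists_affine_chart (O := (⊤ : U.left.Opens)) (x := q.left x₀) trivial
  let V : Over S := Over.mk (j ≫ U.hom)
  let jo : V ⟶ U := Over.homMk j
  let k : pullback q jo ⟶ W := pullback.fst q jo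
  let qV : pullback q jo ⟶ V := pullback.snd q jo
  have sqV := IsPullback.of_hasPullback q jo
  have sqVs : IsPullback k.left qV.left q.left j := sqV.map (Over.forget S)
  have : IsOpenImmersion k.left := MorphismProperty.of_isPullback (P := @IsOpenImmersion) sqVs.flip hj
  have : Smooth qV.left := MorphismProperty.of_isPullback (P := @Smooth) sqVs ‹Smooth q.left›
  have : Smooth (k ≫ p).left := inferInstanceAs (Smooth (k.left ≫ p.left))
  have : IsAffine V.left := inferInstanceAs (IsAffine (Spec B))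
  have hw : (k ≫ p).left ≫ U.hom = qV.left ≫ V.hom := by rw [Over.w (k ≫ p), Over.w qV]
  have : FormallyUnramified (pullback.lift (k ≫ p).left qV.left hw) := by
    let E : pullback U.hom V.hom ⟶ pullback U.hom U.hom :=
      pullback.lift (pullback.fst _ _) (pullback.snd _ _ ≫ j)
        (by rw [Category.assoc, pullback.condition]; rfl)
    have hE : pullback.lift (k ≫ p).left qV.left hw ≫ E =
        k.left ≫ pullback.lift p.left q.left ((Over.w p).trans (Over.w q).symm) := by
      apply pullback.hom_ext <;> simp [E, sqVs.w]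
    have : FormallyUnramified (pullback.lift (k ≫ p).left qV.left hw ≫ E) := hE ▸ MorphismProperty.comp_mem _ _ _
      (inferInstance : FormallyUnramified k.left) hpq
    exact FormallyUnramified.of_comp _ E
  obtain ⟨x, hx₁, hx₂⟩ := exists_preimage sqVs x₀ y hy.symm
  obtain ⟨m, c, hc⟩ := exists_coord U.hom V.hom (k ≫ p).left qV.left hw x
  let g := coordHom (k ≫ p).left fun i => qV.left.appTop (c i)
  -- the étale locus is saturated
  have hsat : ∀ x₁ x₂, qV.left x₁ = qV.left x₂ → x₁ ∈ etLocus g → x₂ ∈ etLocus g := by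
    intro x₁ x₂ eqx hx'
    let Y₀ := pullback q jo
    have sqS := IsPullback.of_hasPullback (Q e) ((AlgSp.yon S).map jo)
    let kF := pullback.fst (Q e) ((AlgSp.yon S).map jo)
    let qF := pullback.snd (Q e) ((AlgSp.yon S).map jo)
    have hcond : ((AlgSp.yon S).map k ≫ ω) ≫ Q e = (AlgSp.yon S).map qV ≫ (AlgSp.yon S).map jo := by
      rw [Category.assoc, ← hq, ← Functor.map_comp, ← Functor.map_comp, sqV.w]
    let w := pullback.lift ((AlgSp.yon S).map k ≫ ω) ((AlgSp.yon S).map qV) hcond
    have wk : w ≫ kF = (AlgSp.yon S).map k ≫ ω := pullback.lift_fst _ _ _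
    have wq : w ≫ qF = (AlgSp.yon S).map qV := pullback.lift_snd _ _ _
    have sqw : IsPullback ((AlgSp.yon S).map k) w ω kF := by
      refine IsPullback.of_bot ?_ wk.symm sqS
      rw [wq, ← hq]
      exact sqV.map (AlgSp.yon S)
    have hwE : AlgSp.RepWith @Etale w := AlgSpLib.RepWith.baseChange sqw hωE
    obtain ⟨θ, s₁, s₂⟩ := exists_translation h he sqS (IsPullback.of_hasPullback qF qF)
    let r₁ := pullback.fst qF qF
    let r₂ := pullback.snd qF qF
    let A₁ := pullback (k ≫ p) p
    let A₂ := pullback (k ≫ p) q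
    have c₁ : ((AlgSp.yon S).map (pullback.fst (k ≫ p) p) ≫ w) ≫ kF ≫ P e =
        ((AlgSp.yon S).map (pullback.snd (k ≫ p) p) ≫ ω) ≫ P e := by
      simp only [Category.assoc, reassoc_of% wk, ← hp, ← Functor.map_comp, pullback.condition]
    have c₂ : ((AlgSp.yon S).map (pullback.fst (k ≫ p) q) ≫ w) ≫ kF ≫ P e =
        ((AlgSp.yon S).map (pullback.snd (k ≫ p) q) ≫ ω) ≫ Q e := by
      simp only [Category.assoc, reassoc_of% wk, ← hp, ← hq, ← Functor.map_comp, pullback.condition]
    let a₁ := s₁.lift _ _ c₁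
    let a₂ := s₂.lift _ _ c₂
    let σ := a₁ ≫ r₂
    have sqY := hwE.rep.isPullback σ
    let e₁ : hwE.rep.pullback σ ⟶ A₁ := hwE.rep.snd σ
    obtain ⟨f₂, hf₂⟩ := (AlgSp.yon S).map_surjective (hwE.rep.fst σ)
    rw [← hf₂] at sqY
    let f₁ := e₁ ≫ pullback.fst (k ≫ p) p
    have hE₁ : Etale e₁.left := hwE.property_snd σ
    have hca : (AlgSp.yon S).map f₂ ≫ w ≫ kF ≫ P e =
        (AlgSp.yon S).map (e₁ ≫ pullback.snd (k ≫ p) p) ≫ ω ≫ Q e := by
      rw [reassoc_of% sqY.w]
      simp only [σ, Category.assoc, e₁]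
      rw [show r₂ ≫ kF ≫ P e = θ ≫ Q e from s₂.w, reassoc_of% s₁.lift_snd]
      simp only [Functor.map_comp, Category.assoc]
    let e₂ : hwE.rep.pullback σ ⟶ A₂ := pullback.lift f₂ (e₁ ≫ pullback.snd (k ≫ p) p) (by
      apply (AlgSp.yon S).map_injective
      rw [← Category.assoc, Functor.map_comp, Functor.map_comp, Functor.map_comp _ (e₁ ≫ _) q, hp, hq,
        Category.assoc, ← reassoc_of% wk]
      exact hca)
    have ea₁ : (AlgSp.yon S).map e₁ ≫ a₁ ≫ r₁ = (AlgSp.yon S).map f₁ ≫ w := by
      simp only [a₁, r₁, s₁.lift_fst, f₁, Functor.map_comp, Category.assoc]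
    have ea : (AlgSp.yon S).map e₂ ≫ a₂ = (AlgSp.yon S).map e₁ ≫ a₁ := by
      refine s₂.hom_ext ?_ ?_
      · rw [Category.assoc, Category.assoc, s₂.lift_fst, ← Category.assoc, ← Functor.map_comp,
          pullback.lift_fst, sqY.w]
      · rw [Category.assoc, Category.assoc, s₂.lift_snd, s₁.lift_snd, ← Category.assoc, ← Functor.map_comp,
          pullback.lift_snd, Functor.map_comp, Category.assoc]
    have sqY₂ : IsPullback ((AlgSp.yon S).map f₁) ((AlgSp.yon S).map e₂) w (a₂ ≫ r₁) := by
      refine AlgSpLib.isPullback_of_yon (by rw [← Category.assoc _ a₂, ea, Category.assoc, ea₁])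
        fun T x z hxz => ?_
      obtain ⟨x, rfl⟩ := (AlgSp.yon S).map_surjective x
      obtain ⟨z, rfl⟩ := (AlgSp.yon S).map_surjective z
      have hz : x ≫ k ≫ p = (z ≫ pullback.snd (k ≫ p) q) ≫ p := by
        apply (AlgSp.yon S).map_injective
        simp only [Functor.map_comp, hp, Category.assoc, ← reassoc_of% wk, reassoc_of% hxz]
        rw [show r₁ ≫ kF ≫ P e = θ ≫ P e from s₁.w, reassoc_of% s₂.lift_snd]
        simp only [Category.assoc]
      let l₁ : T ⟶ A₁ := pullback.lift x (z ≫ pullback.snd (k ≫ p) q) hz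
      have hl₁ : (AlgSp.yon S).map l₁ ≫ a₁ = (AlgSp.yon S).map z ≫ a₂ := by
        refine s₁.hom_ext ?_ ?_
        · rw [Category.assoc, Category.assoc, s₁.lift_fst, ← Category.assoc, ← Functor.map_comp, pullback.lift_fst]
          exact hxz
        · rw [Category.assoc, Category.assoc, s₁.lift_snd, s₂.lift_snd, ← Category.assoc, ← Functor.map_comp,
            pullback.lift_snd, Functor.map_comp, Category.assoc]
      let l := sqY.lift ((AlgSp.yon S).map (z ≫ pullback.fst (k ≫ p) q)) ((AlgSp.yon S).map l₁) (by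
        simp only [σ, reassoc_of% hl₁, r₂, a₂, s₂.lift_fst, Functor.map_comp, Category.assoc])
      obtain ⟨l', hl'⟩ := (AlgSp.yon S).map_surjective l
      have h1 : l' ≫ e₁ = l₁ := (AlgSp.yon S).map_injective (by rw [Functor.map_comp, hl', sqY.lift_snd])
      have h2 : l' ≫ f₂ = z ≫ pullback.fst (k ≫ p) q := (AlgSp.yon S).map_injective (by
        rw [Functor.map_comp, hl', sqY.lift_fst])
      refine ⟨(AlgSp.yon S).map l', ⟨?_, ?_⟩, fun n hn => ?_⟩
      · rw [← Functor.map_comp, show l' ≫ f₁ = x by rw [reassoc_of% h1, pullback.lift_fst]]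
      · rw [← Functor.map_comp, show l' ≫ e₂ = z from pullback.hom_ext
          (by rw [Category.assoc, pullback.lift_fst, h2])
          (by rw [Category.assoc, pullback.lift_snd, reassoc_of% h1, pullback.lift_snd])]
      · obtain ⟨n, rfl⟩ := (AlgSp.yon S).map_surjective n
        obtain ⟨hn₁, hn₂⟩ := hn
        have k₁ : n ≫ f₁ = x := (AlgSp.yon S).map_injective (by rw [Functor.map_comp, hn₁])
        have k₂ : n ≫ e₂ = z := (AlgSp.yon S).map_injective (by rw [Functor.map_comp, hn₂])
        rw [hl']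
        refine sqY.hom_ext ?_ ?_
        · rw [sqY.lift_fst, ← Functor.map_comp, ← k₂, Category.assoc, pullback.lift_fst]
        · rw [sqY.lift_snd, ← Functor.map_comp]
          congr 1
          refine pullback.hom_ext ?_ ?_
          · rw [pullback.lift_fst, ← k₁, Category.assoc]
          · rw [pullback.lift_snd, ← k₂, Category.assoc, Category.assoc, pullback.lift_snd]
    have hE₂ : Etale e₂.left := hwE.property _ _ _ sqY₂
    -- every pair of points with the same second end lifts
    obtain ⟨z, hz₁, hz₂⟩ : ∃ z, f₁.left z = x₁ ∧ f₂.left z = x₂ := by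
      let P₀ := pullback qV qV
      have sqP : IsPullback (pullback.fst qV qV).left (pullback.snd qV qV).left qV.left qV.left :=
        (IsPullback.of_hasPullback qV qV).map (Over.forget S)
      obtain ⟨z₀, hz₁, hz₂⟩ := exists_preimage sqP x₁ x₂ eqx
      let b : (AlgSp.yon S).obj P₀ ⟶ pullback qF qF := pullback.lift
        ((AlgSp.yon S).map (pullback.fst qV qV) ≫ w) ((AlgSp.yon S).map (pullback.snd qV qV) ≫ w) (by
        simp only [Category.assoc, wq, ← Functor.map_comp, pullback.condition])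
      have sq₀ := hωE.rep.isPullback (b ≫ θ)
      obtain ⟨n, hn⟩ := (AlgSp.yon S).map_surjective (hωE.rep.fst (b ≫ θ))
      rw [← hn] at sq₀
      let d := hωE.rep.snd (b ≫ θ)
      have hdS : Surjective d.left := hωS.property _ _ _ sq₀
      obtain ⟨z₁, rfl⟩ := hdS.surj z₀
      have hn' : (d ≫ pullback.fst qV qV) ≫ k ≫ p = n ≫ p := by
        apply (AlgSp.yon S).map_injective
        simp only [Functor.map_comp, hp, Category.assoc]
        rw [reassoc_of% sq₀.w, ← reassoc_of% wk, ← show r₁ ≫ kF ≫ P e = θ ≫ P e from s₁.w]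
        simp only [b, r₁, d, pullback.lift_fst_assoc, Category.assoc]
      let l₁ : hωE.rep.pullback (b ≫ θ) ⟶ A₁ := pullback.lift (d ≫ pullback.fst qV qV) n hn'
      have hl₁ : (AlgSp.yon S).map l₁ ≫ a₁ = (AlgSp.yon S).map d ≫ b := by
        refine s₁.hom_ext ?_ ?_
        · rw [Category.assoc, Category.assoc, s₁.lift_fst, ← Category.assoc, ← Functor.map_comp, pullback.lift_fst,
            pullback.lift_fst, Functor.map_comp, Category.assoc]
        · rw [Category.assoc, Category.assoc, s₁.lift_snd, ← Category.assoc, ← Functor.map_comp, pullback.lift_snd,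
            sq₀.w]
      obtain ⟨l, hl⟩ := (AlgSp.yon S).map_surjective (sqY.lift ((AlgSp.yon S).map (d ≫ pullback.snd qV qV))
        ((AlgSp.yon S).map l₁) (by
          simp only [σ, reassoc_of% hl₁, r₂, b, pullback.lift_snd, Functor.map_comp, Category.assoc]))
      have h1 : l ≫ f₁ = d ≫ pullback.fst qV qV := by
        have : l ≫ e₁ = l₁ := (AlgSp.yon S).map_injective (by rw [Functor.map_comp, hl, sqY.lift_snd])
        rw [reassoc_of% this, pullback.lift_fst]
      have h2 : l ≫ f₂ = d ≫ pullback.snd qV qV := (AlgSp.yon S).map_injective (by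
        rw [Functor.map_comp, hl, sqY.lift_fst])
      exact ⟨l.left z₁, (congrArg (fun f : hωE.rep.pullback (b ≫ θ) ⟶ pullback q jo => f.left z₁) h1).trans hz₁,
        (congrArg (fun f : hωE.rep.pullback (b ≫ θ) ⟶ pullback q jo => f.left z₁) h2).trans hz₂⟩
    have hqq : f₁ ≫ qV = f₂ ≫ qV := (AlgSp.yon S).map_injective (by
      have h3 : (AlgSp.yon S).map f₁ ≫ w ≫ qF = (AlgSp.yon S).map f₂ ≫ w ≫ qF := by
        rw [← Category.assoc, ← ea₁, reassoc_of% sqY.w]
        simp only [σ, Category.assoc, r₁, r₂, qF, pullback.condition, e₁]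
      have h4 := h3
      rw [wq, ← Functor.map_comp, ← Functor.map_comp] at h4
      exact h4)
    have p₁ : IsPullback (pullback.fst (k ≫ p) p).left (pullback.snd (k ≫ p) p).left (k ≫ p).left p.left :=
      (IsPullback.of_hasPullback (k ≫ p) p).map (Over.forget S)
    have p₂ : IsPullback (pullback.fst (k ≫ p) q).left (pullback.snd (k ≫ p) q).left (k ≫ p).left q.left :=
      (IsPullback.of_hasPullback (k ≫ p) q).map (Over.forget S)
    have h' := mem_etLocus_of_image p₁ e₁.left (fun i => qV.left.appTop (c i)) z (by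
      rw [← hz₁] at hx'; exact hx')
    have ef₂ : (pullback.fst (k ≫ p) q).left (e₂.left z) = x₂ := by
      rw [← Scheme.Hom.comp_apply, ← Over.comp_left, pullback.lift_fst, hz₂]
    rw [← ef₂]
    refine image_mem_etLocus p₂ e₂.left (fun i => qV.left.appTop (c i)) z ?_
    have eL : e₂.left ≫ (pullback.snd (k ≫ p) q).left = e₁.left ≫ (pullback.snd (k ≫ p) p).left := by
      rw [← Over.comp_left, ← Over.comp_left, pullback.lift_snd]
    have eR : ∀ i, (e₂.left ≫ (pullback.fst (k ≫ p) q).left).appTop (qV.left.appTop (c i)) =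
        (e₁.left ≫ (pullback.fst (k ≫ p) p).left).appTop (qV.left.appTop (c i)) := fun i => by
      simp only [← CommRingCat.comp_apply, ← Scheme.Hom.comp_appTop]
      have e3 : (e₂.left ≫ (pullback.fst (k ≫ p) q).left) ≫ qV.left =
          (e₁.left ≫ (pullback.fst (k ≫ p) p).left) ≫ qV.left := by
        rw [show e₂.left ≫ (pullback.fst (k ≫ p) q).left = (e₂ ≫ pullback.fst (k ≫ p) q).left from rfl, pullback.lift_fst, ← Over.comp_left, ← Over.comp_left, ← Over.comp_left]
        exact congrArg CommaMorphism.left hqq.symm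
      rw [e3]
    simp only [eL, eR]
    exact h'
  let V₀ : V.left.Opens := ⟨qV.left '' (etLocus g : Set _), qV.left.isOpenMap _ (etLocus g).isOpen⟩
  let E := qV.left ⁻¹ᵁ V₀
  have hE : E = etLocus g := by
    ext z
    constructor
    · rintro ⟨z', hz', e⟩
      exact hsat z' z e hz'
    · intro h
      exact ⟨z, h, rfl⟩
  have : Etale (E.ι ≫ g) :=
    (show ∀ O', O' = etLocus g → Etale (O'.ι ≫ g) from fun O' h => h ▸ etale_etLocus_ι g) E hE
  -- a point at roots of unity in the image
  let gE := E.ι ≫ g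
  let O : (𝔸(ULift.{u} (Fin m); U.left)).Opens := ⟨Set.range gE, gE.isOpenMap.isOpen_range⟩
  have hxE : x ∈ E := hE ▸ hc
  obtain ⟨S', σ, hσ, cS, w, hw₁, hw₂⟩ := exists_etale_point U.hom O (g x) ⟨⟨x, hxE⟩, rfl⟩
  have hgo : g ≫ (𝔸(ULift.{u} (Fin m); U.left) ↘ U.left) = (k ≫ p).left := AffineSpace.homOfVector_over _ _
  have hu : (pullback.fst U.hom σ) w = u₀ := by
    rw [hw₁, ← Scheme.Hom.comp_apply, hgo, Over.comp_left, Scheme.Hom.comp_apply, hx₁, hxp]
  let h := coordHom (pullback.fst U.hom σ) fun i => (pullback.snd U.hom σ).appTop (cS i)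
  let φ := V₀.ι ≫ coordHom V.hom c
  let ψ := coordHom σ cS
  let Z : Over S := Over.mk (pullback.fst φ ψ ≫ V₀.ι ≫ j ≫ U.hom)
  let π : Z ⟶ U := Over.homMk (pullback.fst φ ψ ≫ V₀.ι ≫ j) (by simp [Z])
  let sW : IsPullback (pullback.snd U.hom σ) h ψ (AffineSpace.map _ U.hom) :=
    isPullback_coordHom (IsPullback.of_hasPullback U.hom σ).flip cS
  have sqE := IsPullback.of_hasPullback gE h
  have hφ : (qV.left ∣_ V₀) ≫ φ = gE ≫ AffineSpace.map _ U.hom := by
    rw [show (qV.left ∣_ V₀) ≫ φ = ((qV.left ∣_ V₀) ≫ V₀.ι) ≫ coordHom V.hom c from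
      (Category.assoc _ _ _).symm, morphismRestrict_ι]
    simp only [gE, g, Category.assoc, coordHom_map, comp_coordHom, hw]
    rfl
  let l : pullback gE h ⟶ pullback φ ψ := pullback.lift (pullback.fst gE h ≫ (qV.left ∣_ V₀))
    (pullback.snd gE h ≫ pullback.snd U.hom σ) (by
      rw [Category.assoc, hφ, ← Category.assoc (pullback.fst gE h), pullback.condition, Category.assoc,
        ← sW.w, ← Category.assoc])
  have s₁ : IsPullback (pullback.fst gE h) l (qV.left ∣_ V₀) (pullback.fst φ ψ) := by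
    refine IsPullback.of_bot ?_ (pullback.lift_fst _ _ _).symm (IsPullback.of_hasPullback φ ψ)
    rw [pullback.lift_snd, hφ]
    exact sqE.paste_vert sW.flip
  have s₂ := (s₁.flip.paste_vert ((isPullback_morphismRestrict qV.left V₀).paste_vert sqVs.flip)).flip
  let X₀ : pullback gE h ≅ pullback q.left π.left := s₂.isoPullback
  have e₁ : X₀.hom ≫ pullback.fst q.left π.left ≫ p.left =
      pullback.snd gE h ≫ pullback.fst U.hom σ := by
    have ef : X₀.hom ≫ pullback.fst q.left π.left = pullback.fst gE h ≫ E.ι ≫ k.left :=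
      s₂.isoPullback_hom_fst
    rw [← Category.assoc, ef]
    have e : gE ≫ (𝔸(ULift.{u} (Fin m); U.left) ↘ U.left) = (E.ι ≫ k.left) ≫ p.left := by
      simp only [gE, Category.assoc, hgo, Over.comp_left]
    have eh : h ≫ (𝔸(ULift.{u} (Fin m); U.left) ↘ U.left) = pullback.fst U.hom σ := AffineSpace.homOfVector_over _ _
    rw [← eh, ← pullback.condition_assoc, e]
    simp only [Category.assoc]
  refine ⟨Z, π, ?_, ?_⟩
  · refine (MorphismProperty.cancel_left_of_respectsIso @Etale X₀.hom _).1 ?_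
    rw [e₁]
    have : Etale (pullback.snd gE h) := MorphismProperty.pullback_snd _ _ ‹Etale (E.ι ≫ g)›
    infer_instance
  · obtain ⟨e, he⟩ := hw₂
    obtain ⟨z, -, hz⟩ := Scheme.Pullback.exists_preimage_pullback e w he
    refine ⟨X₀.hom z, ?_⟩
    rw [← Scheme.Hom.comp_apply, e₁, Scheme.Hom.comp_apply, hz, hu]

/-- A scheme mapping to a smooth cover with composite to the target étale and surjective. -/
theorem exists_etale_multisection (h : IsFibGrpd 𝒳.p) (he : IsEquivOver e) (ω : (AlgSp.yon S).obj W ⟶ F)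
    (hωE : AlgSp.RepWith @Etale ω) (hωS : AlgSp.RepWith @Surjective ω) (p q : W ⟶ U)
    (hp : (AlgSp.yon S).map p = ω ≫ P e) (hq : (AlgSp.yon S).map q = ω ≫ Q e)
    [Smooth p.left] [Smooth q.left]
    [FormallyUnramified (pullback.lift p.left q.left ((Over.w p).trans (Over.w q).symm))]
    (hpt : ∀ u₀ : U.left, ∃ x₀ : W.left, p.left x₀ = u₀) :
    ∃ (Z : Over S) (π : Z ⟶ U), Etale (pullback.fst q.left π.left ≫ p.left) ∧
      Surjective (pullback.fst q.left π.left ≫ p.left) := by
  choose Z π hπ hu using fun u₀ : U.left => exists_etale_piece h he ω hωE hωS p q hp hq u₀ (hpt u₀).choose (hpt u₀).choose_spec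
  let Zt := AlgSpLib.sigmaOver Z
  let πt : Zt ⟶ U := Over.homMk (Sigma.desc fun u => (π u).left) (Sigma.hom_ext _ _ fun u => by
    simp [Zt, AlgSpLib.sigmaOver])
  have hι : ∀ u, Sigma.ι (fun v => (Z v).left) u ≫ πt.left = (π u).left := fun u => Sigma.ι_desc _ _
  let i : ∀ u, pullback q.left (π u).left ⟶ pullback q.left πt.left := fun u =>
    pullback.map _ _ _ _ (𝟙 _) (Sigma.ι (fun v => (Z v).left) u) (𝟙 _) (by simp) (by simp [hι])
  have ei : ∀ u, i u ≫ pullback.fst q.left πt.left ≫ p.left = pullback.fst q.left (π u).left ≫ p.left :=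
    fun u => by rw [← Category.assoc, pullback.lift_fst, Category.comp_id]
  refine ⟨Zt, πt, ?_, ⟨fun u => ?_⟩⟩
  · refine IsZariskiLocalAtSource.of_openCover (P := @Etale)
      (Scheme.Pullback.openCoverOfRight (sigmaOpenCover fun v => (Z v).left)
        q.left πt.left) fun u => ?_
    rw [Scheme.Pullback.openCoverOfRight_f]
    rw [← Category.assoc, pullback.lift_fst, Category.comp_id]
    have := hπ u
    rw [← hι u] at this
    exact this
  · obtain ⟨z, hz⟩ := hu u
    exact ⟨i u z, by rw [← Scheme.Hom.comp_apply, ei]; exact hz⟩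

end Groth.Agent.Stk19b.DMSlice
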