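import Groth.Agent.Stk19b.DMFaithful

/-! Points of the space representing the self fibre product of a chart: pairs with an isomorphism. -/

set_option autoImplicit false
set_option linter.style.haveILetI false
set_option backward.isDefEq.respectTransparency false
set_option backward.isDefEq.respectTransparency.types false

universe u

open CategoryTheory CategoryTheory.Limits AlgebraicGeometry Opposite FibCat
open Groth.Agent.Stk19 Groth.Agent.Desc19

namespace Groth.Agent.Stk19b.DMSlice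

variable {S : Scheme.{u}} {𝒳 : AlgSt.Cat S}

section General

variable {U : Over S} {F : AlgSp.Sp S} {𝒵 : AlgSt.Cat S} {y : overCat U ⥤ᵇ 𝒳} {q : 𝒵 ⥤ᵇ 𝒳}
  {e : AlgSt.ofSp F ⥤ᵇ fp y q}


/-- Every object of the fibre product comes from a section, vertically. -/
theorem exists_sec_vert (he : IsEquivOver e) (z : (fp y q).obj) :
    ∃ (γ : (AlgSp.yon S).obj z.obj.fst.left ⟶ F)
      (i : e.obj ⟨_, (GrothendieckTopology.uliftYonedaEquiv.{u + 1} (AlgSp.J S)) γ⟩ ⟶ z), (fp y q).p.map i = eqToHom (e.w_obj ⟨_, (GrothendieckTopology.uliftYonedaEquiv.{u + 1} (AlgSp.J S)) γ⟩) := by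
  obtain ⟨⟨V, s⟩, η, hη⟩ := (EqvData.of_isEquivOver he).surj z
  haveI := hη
  have hV : V = z.obj.fst.left :=
    (e.w_obj ⟨V, s⟩).symm.trans (IsHomLift.domain_eq (fp y q).p (𝟙 ((fp y q).p.obj z)) η.hom)
  subst hV
  let eq0 := congrArg (fun s => e.obj ⟨z.obj.fst.left, s⟩) (Equiv.apply_symm_apply (GrothendieckTopology.uliftYonedaEquiv.{u + 1} (AlgSp.J S)) s)
  refine ⟨(GrothendieckTopology.uliftYonedaEquiv.{u + 1} (AlgSp.J S)).symm s, eqToHom eq0 ≫ η.hom, ?_⟩
  rw [(fp y q).p.map_comp, map_eq_of_vert (fp y q).p (R := (fp y q).p.obj z) η.hom, eqToHom_map]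
  exact eqToHom_trans _ _

/-- An arrow between objects of sections comes from an arrow between the sections. -/
theorem sec_eq_of_arrow (he : IsEquivOver e) {T' T : Over S} (t : T' ⟶ T) (α : (AlgSp.yon S).obj T' ⟶ F)
    (β : (AlgSp.yon S).obj T ⟶ F) (M : e.obj ⟨T', (GrothendieckTopology.uliftYonedaEquiv.{u + 1} (AlgSp.J S)) α⟩ ⟶ e.obj ⟨T, (GrothendieckTopology.uliftYonedaEquiv.{u + 1} (AlgSp.J S)) β⟩)
    (hM : (fp y q).p.map M = eqToHom (e.w_obj _) ≫ t ≫ eqToHom (e.w_obj ⟨T, (GrothendieckTopology.uliftYonedaEquiv.{u + 1} (AlgSp.J S)) β⟩).symm) :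
    (AlgSp.yon S).map t ≫ β = α := by
  have := (EqvData.of_isEquivOver he).full
  let m := e.toFunctor.preimage M
  have hm : m.hom = t := by
    have h := based_map_back e m
    rw [e.toFunctor.map_preimage] at h
    refine h.trans ?_
    rw [hM]
    simp
  refine (GrothendieckTopology.uliftYonedaEquiv.{u + 1} (AlgSp.J S)).injective ?_
  refine Eq.trans ?_ m.map_sec
  rw [hm]
  exact (GrothendieckTopology.uliftYonedaEquiv_naturality (AlgSp.J S) β t).symm

end General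

variable {U : Over S} (u : overCat U ⥤ᵇ 𝒳) {F : AlgSp.Sp S} (e : AlgSt.ofSp F ⥤ᵇ fp u u)

/-- The object of the chart at a point. -/
abbrev pt {T : Over S} (a : T ⟶ U) : 𝒳.obj := u.obj (Over.mk a)

theorem pt_base {T : Over S} (a : T ⟶ U) : 𝒳.p.obj (pt u a) = T := u.w_obj (Over.mk a)

/-- Isomorphisms between the objects at two points. -/
structure Tri {T : Over S} (a b : T ⟶ U) where
  hom : pt u a ⟶ pt u b
  map_hom : 𝒳.p.map hom = eqToHom ((pt_base u a).trans (pt_base u b).symm)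

variable {u}

/-- The arrow of chart objects over an arrow of points. -/
abbrev res {T' T : Over S} (t : T' ⟶ T) {a : T ⟶ U} {a' : T' ⟶ U} (h : t ≫ a = a') : pt u a' ⟶ pt u a :=
  u.map (Over.homMk t (by simp [h]) : Over.mk a' ⟶ Over.mk a)

theorem map_res {T' T : Over S} (t : T' ⟶ T) {a : T ⟶ U} {a' : T' ⟶ U} (h : t ≫ a = a') :
    𝒳.p.map (res (u := u) t h) = eqToHom (pt_base u a') ≫ t ≫ eqToHom (pt_base u a).symm :=
  based_map u _

@[ext] theorem Tri.ext' {T : Over S} {a b : T ⟶ U} {φ ψ : Tri u a b} (h : φ.hom = ψ.hom) : φ = ψ := by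
  cases φ; cases ψ; congr

/-- `φ'` is the restriction of `φ`. -/
def Tri.Restricts {T' T : Over S} (t : T' ⟶ T) {a b : T ⟶ U} {a' b' : T' ⟶ U} (ha : t ≫ a = a') (hb : t ≫ b = b')
    (φ : Tri u a b) (φ' : Tri u a' b') : Prop :=
  φ'.hom ≫ res t hb = res t ha ≫ φ.hom

theorem Tri.exists_restricts (h : IsFibGrpd 𝒳.p) {T' T : Over S} (t : T' ⟶ T) {a b : T ⟶ U} {a' b' : T' ⟶ U}
    (ha : t ≫ a = a') (hb : t ≫ b = b') (φ : Tri u a b) : ∃ φ', Tri.Restricts t ha hb φ φ' := by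
  obtain ⟨χ, ⟨hχm, hχ⟩, -⟩ := fibGrpd_fac h (res t hb) (res t ha ≫ φ.hom)
    (eqToHom ((pt_base u a').trans (pt_base u b').symm)) (by
      rw [𝒳.p.map_comp, map_res, map_res, φ.map_hom]
      simp)
  exact ⟨⟨χ, hχm⟩, hχ⟩

theorem Tri.restricts_unique (h : IsFibGrpd 𝒳.p) {T' T : Over S} {t : T' ⟶ T} {a b : T ⟶ U} {a' b' : T' ⟶ U}
    {ha : t ≫ a = a'} {hb : t ≫ b = b'} {φ : Tri u a b} {φ₁ φ₂ : Tri u a' b'}
    (h₁ : Tri.Restricts t ha hb φ φ₁) (h₂ : Tri.Restricts t ha hb φ φ₂) : φ₁ = φ₂ :=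
  Tri.ext' (fibGrpd_ext h (res t hb) (φ₁.map_hom.trans φ₂.map_hom.symm) (h₁.trans h₂.symm))


/-- The structure map to the first factor. -/
noncomputable abbrev P : F ⟶ (AlgSp.yon S).obj U := AlgSt.spMapOfOver (BasedFunctor.comp e (fpFst u u))

/-- The structure map to the second factor. -/
noncomputable abbrev Q : F ⟶ (AlgSp.yon S).obj U := AlgSt.spMapOfOver (BasedFunctor.comp e (fpSnd u u))

/-- The object of the fibre product given by an isomorphism. -/
noncomputable abbrev obj {T : Over S} {a b : T ⟶ U} (φ : Tri u a b) (h : IsFibGrpd 𝒳.p) : (fp u u).obj :=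
  fpMk (Over.mk a) (Over.mk b) (@asIso _ _ _ _ φ.hom (by
      have : IsIso (𝒳.p.map φ.hom) := by rw [φ.map_hom]; infer_instance
      exact fibGrpd_isIso h _))
    (IsHomLift.of_fac' 𝒳.p _ _ (pt_base u a) (pt_base u b) (by simp [φ.map_hom]))


/-- `γ` is the point with coordinates `a`, `b` and isomorphism `φ`. -/
def IsTri (h : IsFibGrpd 𝒳.p) {T : Over S} (γ : (AlgSp.yon S).obj T ⟶ F) {a b : T ⟶ U} (φ : Tri u a b) : Prop :=
  ∃ M : e.obj ⟨T, (GrothendieckTopology.uliftYonedaEquiv.{u + 1} (AlgSp.J S)) γ⟩ ⟶ obj φ h, (fp u u).p.map M = eqToHom (e.w_obj ⟨T, (GrothendieckTopology.uliftYonedaEquiv.{u + 1} (AlgSp.J S)) γ⟩)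

variable {e} (h : IsFibGrpd 𝒳.p)
include h

theorem isIso_of_vert_fp {p q : (fp u u).obj} (M : p ⟶ q) (hM : IsIso ((fp u u).p.map M)) : IsIso M :=
  fibGrpd_isIso (fibGrpd_fp (isFibGrpd_overCat U) (isFibGrpd_overCat U) h u u) _

theorem comp_eq {T : Over S} {γ : (AlgSp.yon S).obj T ⟶ F} {a b : T ⟶ U} {φ : Tri u a b}
    (hφ : IsTri e h γ φ) : γ ≫ P e = (AlgSp.yon S).map a ∧ γ ≫ Q e = (AlgSp.yon S).map b := by
  obtain ⟨M, hM⟩ := hφ
  constructor <;>
  · refine (GrothendieckTopology.uliftYonedaEquiv.{u + 1} (AlgSp.J S)).injective ?_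
    rw [GrothendieckTopology.uliftYonedaEquiv_comp, AlgSt.spMapOfOver_app]
    refine ULift.ext _ _ ?_
    first
    | show eqToHom _ ≫ (e.obj ⟨T, (GrothendieckTopology.uliftYonedaEquiv.{u + 1} (AlgSp.J S)) γ⟩).obj.fst.hom = 𝟙 _ ≫ a
      rw [← Over.w M.hom.fst, show M.hom.fst.left = eqToHom _ from hM]
      simp
      rfl
    | show eqToHom _ ≫ (e.obj ⟨T, (GrothendieckTopology.uliftYonedaEquiv.{u + 1} (AlgSp.J S)) γ⟩).obj.snd.hom = 𝟙 _ ≫ b
      rw [← Over.w M.hom.snd, show M.hom.snd.left = _ from fp_map_snd M,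
        show (overCat U).p.map M.hom.fst = M.hom.fst.left from rfl, show M.hom.fst.left = eqToHom _ from hM]
      simp
      rfl

theorem exists_point (he : IsEquivOver e) {T : Over S} {a b : T ⟶ U} (φ : Tri u a b) :
    ∃ γ : (AlgSp.yon S).obj T ⟶ F, IsTri e h γ φ :=
  exists_sec_vert he (obj φ h)

theorem exists_tri {T : Over S} (γ : (AlgSp.yon S).obj T ⟶ F) {a b : T ⟶ U}
    (ha : γ ≫ P e = (AlgSp.yon S).map a) (hb : γ ≫ Q e = (AlgSp.yon S).map b) :
    ∃ φ : Tri u a b, IsTri e h γ φ := by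
  let z := e.obj ⟨T, (GrothendieckTopology.uliftYonedaEquiv.{u + 1} (AlgSp.J S)) γ⟩
  have e1 : z.obj.fst.left = T := e.w_obj ⟨T, (GrothendieckTopology.uliftYonedaEquiv.{u + 1} (AlgSp.J S)) γ⟩
  have e2 : z.obj.snd.left = T := (fp_base_eq z).trans e1
  have h1 : eqToHom e1 ≫ a = z.obj.fst.hom := by
    have h' := congrArg (fun f => (GrothendieckTopology.uliftYonedaEquiv.{u + 1} (AlgSp.J S)) f) ha
    simp only [GrothendieckTopology.uliftYonedaEquiv_comp] at h'
    rw [AlgSt.spMapOfOver_app] at h'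
    have h'' : eqToHom e1.symm ≫ z.obj.fst.hom = 𝟙 _ ≫ a := congrArg ULift.down h'
    rw [Category.id_comp] at h''
    rw [← h'']
    simp
  have h2 : eqToHom e2 ≫ b = z.obj.snd.hom := by
    have h' := congrArg (fun f => (GrothendieckTopology.uliftYonedaEquiv.{u + 1} (AlgSp.J S)) f) hb
    simp only [GrothendieckTopology.uliftYonedaEquiv_comp] at h'
    rw [AlgSt.spMapOfOver_app] at h'
    have h'' : eqToHom e2.symm ≫ z.obj.snd.hom = 𝟙 _ ≫ b := congrArg ULift.down h'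
    rw [Category.id_comp] at h''
    rw [← h'']
    simp
  let ka : z.obj.fst ≅ Over.mk a := Over.isoMk (eqToIso e1) h1
  let kb : z.obj.snd ≅ Over.mk b := Over.isoMk (eqToIso e2) h2
  have ma : 𝒳.p.map (u.map ka.inv) =
      eqToHom ((pt_base u a).trans (e1.symm.trans (u.w_obj z.obj.fst).symm)) := by
    rw [based_map u ka.inv, show (overCat U).p.map ka.inv = eqToHom e1.symm from rfl]
    simp
  have mb : 𝒳.p.map (u.map kb.hom) =
      eqToHom ((u.w_obj z.obj.snd).trans (e2.trans (pt_base u b).symm)) := by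
    rw [based_map u kb.hom, show (overCat U).p.map kb.hom = eqToHom e2 from rfl]
    simp
  let φ : Tri u a b := ⟨u.map ka.inv ≫ z.obj.iso.hom ≫ u.map kb.hom, by
    simp [ma, mb, fp_iso_map z]⟩
  refine ⟨φ, fpHom ka.hom kb.hom ?_, rfl⟩
  show u.map ka.hom ≫ u.map ka.inv ≫ z.obj.iso.hom ≫ u.map kb.hom = _
  rw [← u.toFunctor.map_comp_assoc, Iso.hom_inv_id, u.toFunctor.map_id, Category.id_comp]

theorem tri_unique {T : Over S} {γ : (AlgSp.yon S).obj T ⟶ F} {a b : T ⟶ U} {φ ψ : Tri u a b}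
    (hφ : IsTri e h γ φ) (hψ : IsTri e h γ ψ) : φ = ψ := by
  obtain ⟨M, hM⟩ := hφ
  obtain ⟨N, hN⟩ := hψ
  have := isIso_of_vert_fp h M (by rw [hM]; infer_instance)
  let D := inv M ≫ N
  have hf : (fp u u).p.map D = 𝟙 T := by
    rw [(fp u u).p.map_comp, Functor.map_inv, IsIso.inv_comp_eq]
    exact (hN.trans hM.symm).trans (Category.comp_id _).symm
  have d1 : D.hom.fst = 𝟙 (Over.mk a) := Over.OverMorphism.ext hf
  have d2 : D.hom.snd = 𝟙 (Over.mk b) := Over.OverMorphism.ext (by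
    show (overCat U).p.map D.hom.snd = 𝟙 T
    rw [fp_map_snd D, show (overCat U).p.map D.hom.fst = (fp u u).p.map D from rfl, hf]
    simp)
  have w : u.map D.hom.fst ≫ ψ.hom = φ.hom ≫ u.map D.hom.snd := D.hom.w
  rw [d1, d2] at w
  erw [u.toFunctor.map_id, u.toFunctor.map_id, Category.id_comp, Category.comp_id] at w
  exact Tri.ext' w.symm

theorem point_natural (he : IsEquivOver e) {T' T : Over S} (t : T' ⟶ T) {γ : (AlgSp.yon S).obj T ⟶ F}
    {γ' : (AlgSp.yon S).obj T' ⟶ F} {a b : T ⟶ U} {a' b' : T' ⟶ U} {φ : Tri u a b} {φ' : Tri u a' b'}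
    (ha : t ≫ a = a') (hb : t ≫ b = b') (hr : Tri.Restricts t ha hb φ φ') (hγ : IsTri e h γ φ)
    (hγ' : IsTri e h γ' φ') : (AlgSp.yon S).map t ≫ γ = γ' := by
  obtain ⟨M, hM⟩ := hγ
  obtain ⟨N, hN⟩ := hγ'
  have := isIso_of_vert_fp h M (by rw [hM]; infer_instance)
  let R : obj φ' h ⟶ obj φ h := fpHom (Over.homMk t (by simp [ha]) : Over.mk a' ⟶ Over.mk a)
    (Over.homMk t (by simp [hb]) : Over.mk b' ⟶ Over.mk b) hr.symm
  refine sec_eq_of_arrow he t γ' γ (N ≫ R ≫ inv M) ?_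
  rw [(fp u u).p.map_comp, (fp u u).p.map_comp, Functor.map_inv]
  rw [hN, show (fp u u).p.map R = t from rfl]
  congr 2
  refine IsIso.inv_eq_of_hom_inv_id ?_
  exact (congrArg (· ≫ eqToHom _) hM).trans (by simp)

end Groth.Agent.Stk19b.DMSlice
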